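import Mathlib

/-!
# S3510-B, box BSIM: similitudes of the plus type form in dimension four (helper239)

A matrix `A` on `F² ⊗ F²` preserving the form `J ⊗ J` (the polarisation of the determinant of `2 × 2` matrices) up to a
scalar is `a ⊗ b` or `a ⊗ b` composed with the flip.
-/

set_option autoImplicit false

open scoped Matrix

namespace Cfsg.Agent.H239.RC

section
variable {F : Type*} [Field F]

/-- the alternating form on `F²` -/
def om (u v : Fin 2 → F) : F := u 0 * v 1 - u 1 * v 0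

theorem om_smul_left (k : F) {u u' v : Fin 2 → F} (h : ∀ i, u' i = k * u i) : om u' v = k * om u v := by
  simp only [om, h]; ring

theorem om_smul_right (k : F) {u v v' : Fin 2 → F} (h : ∀ i, v' i = k * v i) : om u v' = k * om u v := by
  simp only [om, h]; ring

theorem om_swap (u v : Fin 2 → F) : om u v = -om v u := by simp only [om]; ring

/-- parallel vectors -/
theorem exists_par {u v w : Fin 2 → F} (hw : om u w ≠ 0) (h : om u v = 0) : ∃ k, ∀ i, v i = k * u i := by
  by_cases h0 : u 0 = 0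
  · have h1 : u 1 ≠ 0 := by
      intro h1
      apply hw
      simp only [om, h0, h1]; ring
    refine ⟨v 1 / u 1, fun i => ?_⟩
    simp only [om] at h
    fin_cases i
    · have h2 : u 1 * v 0 = 0 := by rw [h0] at h; linear_combination -h
      have h3 : v 0 = 0 := (mul_eq_zero.1 h2).resolve_left h1
      simp [h0, h3]
    · change v 1 = v 1 / u 1 * u 1
      rw [div_mul_cancel₀ _ h1]
  · refine ⟨v 0 / u 0, fun i => ?_⟩
    simp only [om] at h
    fin_cases i
    · change v 0 = v 0 / u 0 * u 0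
      rw [div_mul_cancel₀ _ h0]
    · change v 1 = v 0 / u 0 * u 1
      rw [div_mul_eq_mul_div, eq_div_iff h0]
      linear_combination h

/-- matrices of rank at most one -/
theorem exists_rank_one {X : Fin 2 → Fin 2 → F} (h : X 0 0 * X 1 1 - X 0 1 * X 1 0 = 0) :
    ∃ u s : Fin 2 → F, ∀ i j, X i j = u i * s j := by
  by_cases h00 : X 0 0 = 0
  · by_cases h01 : X 0 1 = 0
    · refine ⟨![0, 1], fun j => X 1 j, fun i j => ?_⟩
      fin_cases i
      · fin_cases j
        · simp [h00]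
        · simp [h01]
      · simp
    · have h10 : X 1 0 = 0 := by
        rw [h00] at h
        have h1 : X 0 1 * X 1 0 = 0 := by linear_combination -h
        exact (mul_eq_zero.1 h1).resolve_left h01
      refine ⟨fun i => X i 1, ![0, 1], fun i j => ?_⟩
      fin_cases j
      · fin_cases i
        · simp [h00]
        · simp [h10]
      · simp
  · refine ⟨fun i => X i 0, fun j => X 0 j / X 0 0, fun i j => ?_⟩
    change X i j = X i 0 * (X 0 j / X 0 0)
    rw [mul_div_assoc', eq_div_iff h00]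
    fin_cases i <;> fin_cases j
    · rfl
    · change X 0 1 * X 0 0 = X 0 0 * X 0 1
      ring
    · rfl
    · change X 1 1 * X 0 0 = X 1 0 * X 0 1
      linear_combination h

/-- the core computation -/
theorem core {c : F} (hc : c ≠ 0) {u s u' s' v w v' w' : Fin 2 → F} (h : om u u' = 0)
    (hXW : om u v' * om s w' = c) (hYZ : om u' v * om s' w = -c) (hXZ : om u v * om s w = 0)
    (hYW : om u' v' * om s' w' = 0) (hZW : om v v' * om w w' = 0) :
    ∃ a b : Matrix (Fin 2) (Fin 2) F, ∀ i j, u i * s j = a i 0 * b j 0 ∧ u' i * s' j = a i 0 * b j 1 ∧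
      v i * w j = a i 1 * b j 0 ∧ v' i * w' j = a i 1 * b j 1 := by
  have n1 : om u v' ≠ 0 := fun h0 => hc (by rw [← hXW, h0, zero_mul])
  have n2 : om s w' ≠ 0 := fun h0 => hc (by rw [← hXW, h0, mul_zero])
  have n3 : om u' v ≠ 0 := fun h0 => hc (by rw [h0, zero_mul] at hYZ; linear_combination hYZ)
  have n4 : om s' w ≠ 0 := fun h0 => hc (by rw [h0, mul_zero] at hYZ; linear_combination hYZ)
  obtain ⟨l, hl⟩ := exists_par n1 h
  have e1 : om u' v = l * om u v := om_smul_left l hl
  have hl0 : l ≠ 0 := fun h0 => n3 (by rw [e1, h0, zero_mul])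
  have n5 : om u v ≠ 0 := fun h0 => n3 (by rw [e1, h0, mul_zero])
  have e2 : om s w = 0 := (mul_eq_zero.1 hXZ).resolve_left n5
  obtain ⟨m, hm⟩ := exists_par n2 e2
  have e3 : om u' v' = l * om u v' := om_smul_left l hl
  have n6 : om u' v' ≠ 0 := by rw [e3]; exact mul_ne_zero hl0 n1
  have e4 : om s' w' = 0 := (mul_eq_zero.1 hYW).resolve_left n6
  obtain ⟨k, hk⟩ := exists_par n4 e4
  have e5 : om w w' = m * om s w' := om_smul_left m hm
  have e5' : om s' w = m * om s' s := om_smul_right m hm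
  have hm0 : m ≠ 0 := fun h0 => n4 (by rw [e5', h0, zero_mul])
  have n7 : om w w' ≠ 0 := by rw [e5]; exact mul_ne_zero hm0 n2
  have e6 : om v v' = 0 := (mul_eq_zero.1 hZW).resolve_right n7
  have n8 : om v u' ≠ 0 := by rw [om_swap]; exact neg_ne_zero.2 n3
  obtain ⟨r, hr⟩ := exists_par n8 e6
  have e7 : r * k = l * m := by
    have a1 : om u v' = r * om u v := om_smul_right r hr
    have a2 : om s w' = k * om s s' := om_smul_right k hk
    have a3 : om s' s = -om s s' := om_swap _ _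
    have a4 : om s s' ≠ 0 := fun h0 => n2 (by rw [a2, h0, mul_zero])
    rw [a1, a2] at hXW
    rw [e1, e5', a3] at hYZ
    have a5 : (r * k - l * m) * (om u v * om s s') = 0 := by linear_combination hXW + hYZ
    exact sub_eq_zero.1 ((mul_eq_zero.1 a5).resolve_right (mul_ne_zero n5 a4))
  refine ⟨fun i => ![u i, m * v i], fun j => ![s j, l * s' j], fun i j => ⟨?_, ?_, ?_, ?_⟩⟩
  · rfl
  · change u' i * s' j = u i * (l * s' j)
    rw [hl]; ring
  · change v i * w j = m * v i * s j
    rw [hm]; ring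
  · change v' i * w' j = m * v i * (l * s' j)
    rw [hr, hk]; linear_combination (v i * s' j) * e7

end

/-- Similitudes of the plus type form in dimension four. -/
theorem bsim {F : Type} [Field F] (h2 : (2 : F) ≠ 0) (A : GL (Fin 2 × Fin 2) F) {c : F} (hc : c ≠ 0)
    (h : (A : Matrix (Fin 2 × Fin 2) (Fin 2 × Fin 2) F)ᵀ *
      Matrix.kroneckerMap (· * ·) (!![0, 1; -1, 0] : Matrix (Fin 2) (Fin 2) F) !![0, 1; -1, 0] *
      (A : Matrix (Fin 2 × Fin 2) (Fin 2 × Fin 2) F) =
      c • Matrix.kroneckerMap (· * ·) (!![0, 1; -1, 0] : Matrix (Fin 2) (Fin 2) F) !![0, 1; -1, 0]) :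
    ∃ a b : Matrix (Fin 2) (Fin 2) F,
      (A : Matrix (Fin 2 × Fin 2) (Fin 2 × Fin 2) F) = Matrix.kroneckerMap (· * ·) a b ∨
      (A : Matrix (Fin 2 × Fin 2) (Fin 2 × Fin 2) F) = (Matrix.kroneckerMap (· * ·) a b).submatrix id Prod.swap := by
  set M : Matrix (Fin 2 × Fin 2) (Fin 2 × Fin 2) F := (A : Matrix (Fin 2 × Fin 2) (Fin 2 × Fin 2) F) with hM
  have hB : ∀ p q : Fin 2 × Fin 2, M (0, 0) p * M (1, 1) q - M (0, 1) p * M (1, 0) q - M (1, 0) p * M (0, 1) q +
      M (1, 1) p * M (0, 0) q = c * ((!![0, 1; -1, 0] : Matrix (Fin 2) (Fin 2) F) p.1 q.1 *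
        (!![0, 1; -1, 0] : Matrix (Fin 2) (Fin 2) F) p.2 q.2) := by
    intro p q
    have h1 := congrFun (congrFun h p) q
    rw [Matrix.smul_apply, Matrix.kroneckerMap_apply, smul_eq_mul] at h1
    rw [← h1]
    simp only [Matrix.mul_apply, Matrix.transpose_apply, Matrix.kroneckerMap_apply, Fintype.sum_prod_type,
      Fin.sum_univ_two, Matrix.of_apply, Matrix.cons_val', Matrix.cons_val_zero, Matrix.cons_val_one,
      Matrix.cons_val_fin_one]
    ring
  -- the columns
  have hdet : ∀ p : Fin 2 × Fin 2, M (0, 0) p * M (1, 1) p - M (0, 1) p * M (1, 0) p = 0 := by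
    intro p
    have h1 := hB p p
    have h3 : (!![0, 1; -1, 0] : Matrix (Fin 2) (Fin 2) F) p.1 p.1 = 0 := by
      obtain ⟨i, j⟩ := p
      fin_cases i <;> rfl
    rw [h3, zero_mul, mul_zero] at h1
    have h4 : (2 : F) * (M (0, 0) p * M (1, 1) p - M (0, 1) p * M (1, 0) p) = 0 := by linear_combination h1
    exact (mul_eq_zero.1 h4).resolve_left h2
  have hcol : ∀ p : Fin 2 × Fin 2, ∃ u s : Fin 2 → F, ∀ i j, M (i, j) p = u i * s j := fun p =>
    exists_rank_one (X := fun i j => M (i, j) p) (hdet p)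
  choose u s hus using hcol
  have hom : ∀ p q : Fin 2 × Fin 2, om (u p) (u q) * om (s p) (s q) =
      c * ((!![0, 1; -1, 0] : Matrix (Fin 2) (Fin 2) F) p.1 q.1 *
        (!![0, 1; -1, 0] : Matrix (Fin 2) (Fin 2) F) p.2 q.2) := by
    intro p q
    rw [← hB p q]
    simp only [hus, om]
    ring
  have e1 : om (u (0, 0)) (u (0, 1)) * om (s (0, 0)) (s (0, 1)) = 0 := by rw [hom]; simp
  have e2 : om (u (0, 0)) (u (1, 0)) * om (s (0, 0)) (s (1, 0)) = 0 := by rw [hom]; simp
  have e3 : om (u (0, 1)) (u (1, 1)) * om (s (0, 1)) (s (1, 1)) = 0 := by rw [hom]; simp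
  have e4 : om (u (1, 0)) (u (1, 1)) * om (s (1, 0)) (s (1, 1)) = 0 := by rw [hom]; simp
  have e5 : om (u (0, 0)) (u (1, 1)) * om (s (0, 0)) (s (1, 1)) = c := by rw [hom]; simp
  have e6 : om (u (0, 1)) (u (1, 0)) * om (s (0, 1)) (s (1, 0)) = -c := by rw [hom]; simp
  rcases mul_eq_zero.1 e1 with h0 | h0
  · obtain ⟨a, b, hab⟩ := core hc h0 e5 e6 e2 e3 e4
    refine ⟨a, b, Or.inl ?_⟩
    ext ⟨i, j⟩ ⟨k, l⟩
    rw [Matrix.kroneckerMap_apply, hus]
    obtain ⟨h1, h2, h3, h4⟩ := hab i j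
    fin_cases k <;> fin_cases l
    · exact h1
    · exact h2
    · exact h3
    · exact h4
  · obtain ⟨a, b, hab⟩ := core (u := s (0, 0)) (s := u (0, 0)) (u' := s (0, 1)) (s' := u (0, 1)) (v := s (1, 0))
      (w := u (1, 0)) (v' := s (1, 1)) (w' := u (1, 1)) hc h0 (by rw [mul_comm, e5]) (by rw [mul_comm, e6])
      (by rw [mul_comm, e2]) (by rw [mul_comm, e3]) (by rw [mul_comm, e4])
    refine ⟨b, a, Or.inr ?_⟩
    ext ⟨i, j⟩ ⟨k, l⟩
    rw [Matrix.submatrix_apply, Matrix.kroneckerMap_apply, hus]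
    obtain ⟨h1, h2, h3, h4⟩ := hab j i
    change u (k, l) i * s (k, l) j = b i l * a j k
    fin_cases k <;> fin_cases l
    · rw [mul_comm (b i _), mul_comm (u _ _)]; exact h1
    · rw [mul_comm (b i _), mul_comm (u _ _)]; exact h2
    · rw [mul_comm (b i _), mul_comm (u _ _)]; exact h3
    · rw [mul_comm (b i _), mul_comm (u _ _)]; exact h4

end Cfsg.Agent.H239.RC
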