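import Mathlib
import Cfsg.Agent.H384.RC.KRule

/-!
# S3510-B, box BO4, part (b): the Heisenberg group of a singular vector in dimension four (helper239)
-/

set_option autoImplicit false

open scoped Matrix

namespace Cfsg.Agent.H239.RC

open Cfsg.Agent.H106.RC Cfsg.Agent.H999.PslGraph Cfsg.Agent.H384.RC

section lin
variable {F : Type*} [Field F]

/-- An isotropic subspace `U` of `F² × F²` (form `a·b' - a'·b`) is annihilated by a functional `(u, w)` with `w = 0`,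
or `u = 0`, or `w·u ≠ 0`. -/
theorem exists_functional (h2 : (2 : F) ≠ 0) (U : F → F → F → F → Prop)
    (hlin : ∀ (k l a0 a1 b0 b1 c0 c1 d0 d1 : F), U a0 a1 b0 b1 → U c0 c1 d0 d1 →
      U (k * a0 + l * c0) (k * a1 + l * c1) (k * b0 + l * d0) (k * b1 + l * d1))
    (hiso : ∀ a0 a1 b0 b1 c0 c1 d0 d1 : F, U a0 a1 b0 b1 → U c0 c1 d0 d1 →
      a0 * d0 + a1 * d1 - (c0 * b0 + c1 * b1) = 0) :
    ∃ u0 u1 w0 w1 : F, (∀ a0 a1 b0 b1, U a0 a1 b0 b1 → a0 * u0 + a1 * u1 + w0 * b0 + w1 * b1 = 0) ∧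
      ((¬ (u0 = 0 ∧ u1 = 0) ∧ w0 = 0 ∧ w1 = 0) ∨ (u0 = 0 ∧ u1 = 0 ∧ ¬ (w0 = 0 ∧ w1 = 0)) ∨
        w0 * u0 + w1 * u1 ≠ 0) := by
  by_cases hA : ∀ a0 a1 b0 b1 c0 c1 d0 d1 : F, U a0 a1 b0 b1 → U c0 c1 d0 d1 → a0 * c1 - a1 * c0 = 0
  · by_cases hz : ∀ a0 a1 b0 b1 : F, U a0 a1 b0 b1 → a0 = 0 ∧ a1 = 0
    · refine ⟨1, 0, 0, 0, fun a0 a1 b0 b1 h => ?_, Or.inl ⟨fun h => one_ne_zero h.1, rfl, rfl⟩⟩
      obtain ⟨h3, h4⟩ := hz _ _ _ _ h
      rw [h3, h4]; ring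
    · push Not at hz
      obtain ⟨a0, a1, b0, b1, h, hne⟩ := hz
      refine ⟨-a1, a0, 0, 0, fun c0 c1 d0 d1 h' => ?_, Or.inl ⟨fun h3 => ?_, rfl, rfl⟩⟩
      · have := hA _ _ _ _ _ _ _ _ h h'
        linear_combination this
      · exact hne h3.2 (neg_eq_zero.1 h3.1)
  · push Not at hA
    obtain ⟨a0, a1, b0, b1, c0, c1, d0, d1, h, h', hne⟩ := hA
    set δ := a0 * c1 - a1 * c0 with hδ
    -- `m1 = (1, 0, ..)`, `m2 = (0, 1, ..)`
    have m1 := hlin (c1 / δ) (-a1 / δ) _ _ _ _ _ _ _ _ h h'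
    have m2 := hlin (-c0 / δ) (a0 / δ) _ _ _ _ _ _ _ _ h h'
    have e1 : c1 / δ * a0 + -a1 / δ * c0 = 1 := by
      field_simp
      rw [hδ]; ring
    have e2 : c1 / δ * a1 + -a1 / δ * c1 = 0 := by ring
    have e3 : -c0 / δ * a0 + a0 / δ * c0 = 0 := by ring
    have e4 : -c0 / δ * a1 + a0 / δ * c1 = 1 := by
      field_simp
      rw [hδ]; ring
    rw [e1, e2] at m1
    rw [e3, e4] at m2
    obtain ⟨p00, hp00⟩ : ∃ p, p = c1 / δ * b0 + -a1 / δ * d0 := ⟨_, rfl⟩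
    obtain ⟨p10, hp10⟩ : ∃ p, p = c1 / δ * b1 + -a1 / δ * d1 := ⟨_, rfl⟩
    obtain ⟨p01, hp01⟩ : ∃ p, p = -c0 / δ * b0 + a0 / δ * d0 := ⟨_, rfl⟩
    obtain ⟨p11, hp11⟩ : ∃ p, p = -c0 / δ * b1 + a0 / δ * d1 := ⟨_, rfl⟩
    rw [← hp00, ← hp10] at m1
    rw [← hp01, ← hp11] at m2
    have hs := hiso _ _ _ _ _ _ _ _ m1 m2
    have key : ∀ w0 w1 : F, ∀ a0 a1 b0 b1, U a0 a1 b0 b1 →
        a0 * -(p00 * w0 + p10 * w1) + a1 * -(p01 * w0 + p11 * w1) + w0 * b0 + w1 * b1 = 0 := by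
      intro w0 w1 x0 x1 y0 y1 hU
      have i1 := hiso _ _ _ _ _ _ _ _ hU m1
      have i2 := hiso _ _ _ _ _ _ _ _ hU m2
      linear_combination (-w0) * i1 - w1 * i2 + (x0 * w1 - x1 * w0) * hs
    by_cases h00 : p00 = 0
    · by_cases h11 : p11 = 0
      · by_cases h10 : p10 = 0
        · refine ⟨_, _, 1, 0, key 1 0, Or.inr (Or.inl ⟨?_, ?_, fun h3 => one_ne_zero h3.1⟩)⟩
          · rw [h00, h10]; ring
          · rw [h11]
            linear_combination -hs - h10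
        · refine ⟨_, _, 1, 1, key 1 1, Or.inr (Or.inr ?_)⟩
          intro h3
          rw [h00, h11] at h3
          have h4 : (2 : F) * p10 = 0 := by linear_combination -h3 - hs
          exact h10 ((mul_eq_zero.1 h4).resolve_left h2)
      · refine ⟨_, _, 0, 1, key 0 1, Or.inr (Or.inr ?_)⟩
        intro h3
        apply h11
        linear_combination -h3
    · refine ⟨_, _, 1, 0, key 1 0, Or.inr (Or.inr ?_)⟩
      intro h3
      apply h00
      linear_combination -h3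

omit [Field F] in
/-- a third value -/
theorem exists_avoid [Fintype F] (hq : 5 ≤ Fintype.card F) (x y z : F) : ∃ τ : F, τ ≠ x ∧ τ ≠ y ∧ τ ≠ z := by
  classical
  by_contra hcon
  push Not at hcon
  have h1 : (Finset.univ : Finset F) ⊆ {x, y, z} := by
    intro τ _
    simp only [Finset.mem_insert, Finset.mem_singleton]
    by_cases h1 : τ = x
    · exact Or.inl h1
    · by_cases h2 : τ = y
      · exact Or.inr (Or.inl h2)
      · exact Or.inr (Or.inr (hcon τ h1 h2))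
  have h2 := Finset.card_le_card h1
  have h3 : ({x, y, z} : Finset F).card ≤ 3 := Finset.card_le_three
  rw [Finset.card_univ] at h2
  omega

/-- moving the functional to a good position with `SL₂` -/
theorem exists_levi [Fintype F] (hq : 5 ≤ Fintype.card F) (u0 u1 w0 w1 : F)
    (h : (¬ (u0 = 0 ∧ u1 = 0) ∧ w0 = 0 ∧ w1 = 0) ∨ (u0 = 0 ∧ u1 = 0 ∧ ¬ (w0 = 0 ∧ w1 = 0)) ∨
        w0 * u0 + w1 * u1 ≠ 0) :
    ∃ x y z v : F, x * v - y * z = 1 ∧ (-z * u0 + x * u1) + (w0 * x + w1 * z) ≠ 0 ∧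
      (v * u0 - y * u1) + (w0 * y + w1 * v) ≠ 0 ∧
      ¬ ((w0 * y + w1 * v) = (v * u0 - y * u1) ∧ (w0 * x + w1 * z) = (-z * u0 + x * u1)) := by
  -- `E (1, 1) = u`
  have hE : ¬ (u0 = 0 ∧ u1 = 0) → ∃ x y z v : F, x * v - y * z = 1 ∧ x + y = u0 ∧ z + v = u1 := by
    intro hu
    by_cases h0 : u0 = 0
    · have h1 : u1 ≠ 0 := fun h1 => hu ⟨h0, h1⟩
      refine ⟨u1⁻¹, -u1⁻¹, u1, 0, ?_, ?_, ?_⟩
      · rw [mul_zero, neg_mul, inv_mul_cancel₀ h1]; ring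
      · rw [h0]; ring
      · ring
    · refine ⟨u0, 0, u1 - u0⁻¹, u0⁻¹, ?_, ?_, ?_⟩
      · rw [mul_inv_cancel₀ h0]; ring
      · ring
      · ring
  rcases h with ⟨hu, rfl, rfl⟩ | ⟨rfl, rfl, hw⟩ | hd
  · obtain ⟨x, y, z, v, hdet, hx, hz⟩ := hE hu
    have e1 : -z * u0 + x * u1 = 1 := by rw [← hx, ← hz]; linear_combination hdet
    have e2 : v * u0 - y * u1 = 1 := by rw [← hx, ← hz]; linear_combination hdet
    refine ⟨x, y, z, v, hdet, ?_, ?_, ?_⟩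
    · rw [e1]; simp
    · rw [e2]; simp
    · rw [e1, e2]; simp
  · by_cases h0 : w0 = 0
    · have h1 : w1 ≠ 0 := fun h1 => hw ⟨h0, h1⟩
      refine ⟨w1, 0, w1⁻¹, w1⁻¹, ?_, ?_, ?_, ?_⟩
      · rw [mul_inv_cancel₀ h1]; ring
      · rw [h0, mul_inv_cancel₀ h1]; simp
      · rw [h0, mul_inv_cancel₀ h1]; simp
      · rw [h0, mul_inv_cancel₀ h1]; simp
    · refine ⟨w0⁻¹, w0⁻¹ - w1, 0, w0, ?_, ?_, ?_, ?_⟩
      · rw [inv_mul_cancel₀ h0]; ring
      · rw [mul_inv_cancel₀ h0]; simp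
      · have : w0 * (w0⁻¹ - w1) + w1 * w0 = 1 := by rw [mul_sub, mul_inv_cancel₀ h0]; ring
        rw [this]; simp
      · have : w0 * (w0⁻¹ - w1) + w1 * w0 = 1 := by rw [mul_sub, mul_inv_cancel₀ h0]; ring
        rw [this]; simp
  · have hu : ¬ (u0 = 0 ∧ u1 = 0) := by
      rintro ⟨rfl, rfl⟩
      exact hd (by ring)
    obtain ⟨x, y, z, v, hdet, hx, hz⟩ := hE hu
    set d := w0 * u0 + w1 * u1 with hd'
    obtain ⟨τ, h1, h2, h3⟩ := exists_avoid hq (-1) (1 + d) 1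
    set β := (w0 * x + w1 * z - τ) / d with hβ
    have hβ' : β * d = w0 * x + w1 * z - τ := div_mul_cancel₀ _ hd
    refine ⟨x * (1 - β) - y * β, x * β + y * (1 + β), z * (1 - β) - v * β, z * β + v * (1 + β), ?_, ?_⟩
    · linear_combination hdet
    have e1 : -(z * (1 - β) - v * β) * u0 + (x * (1 - β) - y * β) * u1 = 1 := by
      rw [← hx, ← hz]; linear_combination hdet
    have e2 : (z * β + v * (1 + β)) * u0 - (x * β + y * (1 + β)) * u1 = 1 := by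
      rw [← hx, ← hz]; linear_combination hdet
    have hds : d = w0 * (x + y) + w1 * (z + v) := by rw [hx, hz]
    have e3 : w0 * (x * (1 - β) - y * β) + w1 * (z * (1 - β) - v * β) = τ := by
      have : w0 * (x * (1 - β) - y * β) + w1 * (z * (1 - β) - v * β) = w0 * x + w1 * z - β * d := by
        rw [hds]; ring
      rw [this, hβ']; ring
    have e4 : w0 * (x * β + y * (1 + β)) + w1 * (z * β + v * (1 + β)) = d - τ := by
      have : w0 * (x * β + y * (1 + β)) + w1 * (z * β + v * (1 + β)) = w0 * y + w1 * v + β * d := by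
        rw [hds]; ring
      rw [this, hβ', hds]; ring
    rw [e1, e2, e3, e4]
    refine ⟨fun h => h1 (by linear_combination h), fun h => h2 (by linear_combination -h), fun h => h3 h.2⟩

end lin

section abst
variable {F : Type*} [Field F] {A X : Type*} [Group A] [MulAction A X]

/-- the Heisenberg argument for an abstract action -/
theorem heis_fix [Fintype F] (h2 : (2 : F) ≠ 0) (hq : 5 ≤ Fintype.card F) (q : F → F → F → F → F → A)
    (q_mul : ∀ a0 a1 b0 b1 c a0' a1' b0' b1' c' : F, q a0 a1 b0 b1 c * q a0' a1' b0' b1' c' =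
      q (a0 + a0') (a1 + a1') (b0 + b0') (b1 + b1') (c + c' + (a0 * b0' + a1 * b1')))
    (q_zero : q 0 0 0 0 0 = 1)
    (l : (x y z v : F) → x * v - y * z = 1 → A)
    (l_mul : ∀ (x y z v : F) (hd : x * v - y * z = 1) (a0 a1 b0 b1 c : F), l x y z v hd * q a0 a1 b0 b1 c =
      q (a0 * v - a1 * z) (-a0 * y + a1 * x) (x * b0 + y * b1) (z * b0 + v * b1) c * l x y z v hd)
    (t : A) (t_mul : ∀ a0 a1 b0 b1 c : F, t * q a0 a1 b0 b1 c = q b1 b0 a1 a0 (a0 * b0 + a1 * b1 - c) * t)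
    (P : X → Prop) (Pq : ∀ p, P p → ∀ a0 a1 b0 b1 c, P (q a0 a1 b0 b1 c • p))
    (Pl : ∀ p, P p → ∀ x y z v hd, P ((l x y z v hd)⁻¹ • p))
    (hstar : ∀ p, P p → t • p = p ∨ (∀ s, q 0 s s 0 0 • p = p) ∨ (∀ s, q s 0 0 s 0 • p = p))
    (ω : X) (hω : P ω) : q 0 0 0 0 1 • ω = ω := by
  by_contra hyω
  have q_comm : ∀ a0 a1 b0 b1 c a0' a1' b0' b1' c' : F, q a0 a1 b0 b1 c * q a0' a1' b0' b1' c' =
      q 0 0 0 0 (a0 * b0' + a1 * b1' - (a0' * b0 + a1' * b1)) * (q a0' a1' b0' b1' c' * q a0 a1 b0 b1 c) := by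
    intro a0 a1 b0 b1 c a0' a1' b0' b1' c'
    rw [q_mul, q_mul, q_mul]
    congr 1 <;> ring
  let St : F → F → F → F → Prop := fun a0 a1 b0 b1 => ∃ c, q a0 a1 b0 b1 c • ω = ω
  have St_add : ∀ {a0 a1 b0 b1 a0' a1' b0' b1'}, St a0 a1 b0 b1 → St a0' a1' b0' b1' →
      St (a0 + a0') (a1 + a1') (b0 + b0') (b1 + b1') := by
    rintro a0 a1 b0 b1 a0' a1' b0' b1' ⟨c, hc⟩ ⟨c', hc'⟩
    refine ⟨c + c' + (a0 * b0' + a1 * b1'), ?_⟩
    rw [← q_mul, mul_smul, hc', hc]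
  obtain ⟨u0, u1, w0, w1, hfun, htri⟩ := exists_functional h2
    (fun a0 a1 b0 b1 => ∀ l : F, St (l * a0) (l * a1) (l * b0) (l * b1)) (by
      intro k l a0 a1 b0 b1 c0 c1 d0 d1 h h' m
      have h3 := St_add (h (m * k)) (h' (m * l))
      convert h3 using 1 <;> ring) (by
      intro a0 a1 b0 b1 c0 c1 d0 d1 h h'
      by_contra hΔ
      obtain ⟨δ, hδ⟩ : ∃ δ, δ = (a0 * d0 + a1 * d1 - (c0 * b0 + c1 * b1))⁻¹ := ⟨_, rfl⟩
      obtain ⟨c, hc⟩ := h δ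
      obtain ⟨c', hc'⟩ := h' 1
      apply hyω
      have h3 := q_comm (δ * a0) (δ * a1) (δ * b0) (δ * b1) c (1 * c0) (1 * c1) (1 * d0) (1 * d1) c'
      have h4 : δ * a0 * (1 * d0) + δ * a1 * (1 * d1) - (1 * c0 * (δ * b0) + 1 * c1 * (δ * b1)) = 1 := by
        have : δ * (a0 * d0 + a1 * d1 - (c0 * b0 + c1 * b1)) = 1 := by
          rw [hδ]; exact inv_mul_cancel₀ hΔ
        linear_combination this
      rw [h4] at h3
      have h5 := congrArg (fun g => g • ω) h3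
      simp only [mul_smul] at h5
      rw [hc', hc, hc'] at h5
      exact h5.symm)
  obtain ⟨x, y, z, v, hdet, hY1, hY2, hY3⟩ := exists_levi hq u0 u1 w0 w1 htri
  obtain ⟨ω', hω'⟩ : ∃ ω' : X, ω' = (l x y z v hdet)⁻¹ • ω := ⟨_, rfl⟩
  have hPω' : P ω' := by rw [hω']; exact Pl _ hω _ _ _ _ _
  let St' : F → F → F → F → Prop := fun a0 a1 b0 b1 => ∃ c, q a0 a1 b0 b1 c • ω' = ω'
  have hSt' : ∀ a0 a1 b0 b1, St' a0 a1 b0 b1 → St (a0 * v - a1 * z) (-a0 * y + a1 * x) (x * b0 + y * b1)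
      (z * b0 + v * b1) := by
    rintro a0 a1 b0 b1 ⟨c, hc⟩
    refine ⟨c, ?_⟩
    have h3 := congrArg (fun g => g • ω') (l_mul x y z v hdet a0 a1 b0 b1 c)
    simp only [mul_smul] at h3
    rw [hc, hω', smul_inv_smul] at h3
    exact h3.symm
  have hker : ∀ a0 a1 b0 b1, (∀ s : F, St' (s * a0) (s * a1) (s * b0) (s * b1)) →
      a0 * (v * u0 - y * u1) + a1 * (-z * u0 + x * u1) + b0 * (w0 * x + w1 * z) + b1 * (w0 * y + w1 * v) = 0 := by
    intro a0 a1 b0 b1 h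
    have h3 := hfun (a0 * v - a1 * z) (-a0 * y + a1 * x) (x * b0 + y * b1) (z * b0 + v * b1) (by
      intro l
      have h4 := hSt' _ _ _ _ (h l)
      convert h4 using 1 <;> ring)
    linear_combination h3
  -- the points `Q ω'`
  have hpt : ∀ a0 a1 b0 b1 c, t • (q a0 a1 b0 b1 c • ω') = q a0 a1 b0 b1 c • ω' := by
    intro a0 a1 b0 b1 c
    have h3 := hstar _ (Pq _ hPω' a0 a1 b0 b1 c)
    have hmv : ∀ a0' a1' b0' b1' : F, q a0' a1' b0' b1' 0 • (q a0 a1 b0 b1 c • ω') =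
        q a0 a1 b0 b1 c • ω' → St' a0' a1' b0' b1' := by
      intro a0' a1' b0' b1' h4
      refine ⟨a0' * b0 + a1' * b1 - (a0 * b0' + a1 * b1'), ?_⟩
      have h6 : q a0 a1 b0 b1 c * q a0' a1' b0' b1' (a0' * b0 + a1' * b1 - (a0 * b0' + a1 * b1')) =
          q a0' a1' b0' b1' 0 * q a0 a1 b0 b1 c := by
        rw [q_mul, q_mul]
        congr 1 <;> ring
      have h7 := congrArg (fun g => g • ω') h6
      simp only [mul_smul] at h7
      rw [h4] at h7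
      exact smul_left_cancel _ h7
    rcases h3 with h3 | h3 | h3
    · exact h3
    · exfalso
      apply hY1
      have h4 := hker 0 1 1 0 (fun s => by
        have h5 := hmv 0 s s 0 (h3 s)
        convert h5 using 1 <;> ring)
      linear_combination h4
    · exfalso
      apply hY2
      have h4 := hker 1 0 0 1 (fun s => by
        have h5 := hmv s 0 0 s (h3 s)
        convert h5 using 1 <;> ring)
      linear_combination h4
  have hcov : ∀ a0 a1 b0 b1, St' (b1 - a0) (b0 - a1) (a1 - b0) (a0 - b1) := by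
    intro a0 a1 b0 b1
    have h3 := hpt a0 a1 b0 b1 0
    have h4 : t • ω' = ω' := by
      have h5 := hpt 0 0 0 0 0
      rwa [q_zero, one_smul] at h5
    rw [← mul_smul, t_mul, mul_smul, h4] at h3
    refine ⟨(a0 * b0 + a1 * b1 - 0) - 0 - (a0 * (a1 - b0) + a1 * (a0 - b1)), ?_⟩
    have h5 : q a0 a1 b0 b1 0 * q (b1 - a0) (b0 - a1) (a1 - b0) (a0 - b1)
        ((a0 * b0 + a1 * b1 - 0) - 0 - (a0 * (a1 - b0) + a1 * (a0 - b1))) =
        q b1 b0 a1 a0 (a0 * b0 + a1 * b1 - 0) := by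
      rw [q_mul]
      congr 1 <;> ring
    rw [← h5, mul_smul] at h3
    exact smul_left_cancel _ h3
  apply hY3
  constructor
  · have h3 := hker 1 0 0 (-1) (fun s => by
      have h4 := hcov 0 0 0 s
      convert h4 using 1 <;> ring)
    linear_combination -h3
  · have h3 := hker 0 1 (-1) 0 (fun s => by
      have h4 := hcov 0 0 s 0
      convert h4 using 1 <;> ring)
    linear_combination -h3

/-- the same for the cosets of a subgroup -/
theorem heis_fix_quot [Fintype F] (h2 : (2 : F) ≠ 0) (hq : 5 ≤ Fintype.card F) (q : F → F → F → F → F → A)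
    (q_mul : ∀ a0 a1 b0 b1 c a0' a1' b0' b1' c' : F, q a0 a1 b0 b1 c * q a0' a1' b0' b1' c' =
      q (a0 + a0') (a1 + a1') (b0 + b0') (b1 + b1') (c + c' + (a0 * b0' + a1 * b1')))
    (q_zero : q 0 0 0 0 0 = 1)
    (l : (x y z v : F) → x * v - y * z = 1 → A)
    (l_mul : ∀ (x y z v : F) (hd : x * v - y * z = 1) (a0 a1 b0 b1 c : F), l x y z v hd * q a0 a1 b0 b1 c =
      q (a0 * v - a1 * z) (-a0 * y + a1 * x) (x * b0 + y * b1) (z * b0 + v * b1) c * l x y z v hd)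
    (t : A) (t_mul : ∀ a0 a1 b0 b1 c : F, t * q a0 a1 b0 b1 c = q b1 b0 a1 a0 (a0 * b0 + a1 * b1 - c) * t)
    (N H : Subgroup A) (Nq : ∀ a0 a1 b0 b1 c, q a0 a1 b0 b1 c ∈ N) (Nl : ∀ x y z v hd, l x y z v hd ∈ N)
    (hstar : ∀ n ∈ N, t • ((n : A) : A ⧸ H) = n ∨ (∀ s, q 0 s s 0 0 • ((n : A) : A ⧸ H) = n) ∨
      (∀ s, q s 0 0 s 0 • ((n : A) : A ⧸ H) = n))
    (n : A) (hn : n ∈ N) : q 0 0 0 0 1 • ((n : A) : A ⧸ H) = n := by
  refine heis_fix h2 hq q q_mul q_zero l l_mul t t_mul (fun p => ∃ n ∈ N, p = ((n : A) : A ⧸ H)) ?_ ?_ ?_ _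
    ⟨n, hn, rfl⟩
  · rintro p ⟨n, hn, rfl⟩ a0 a1 b0 b1 c
    exact ⟨_, mul_mem (Nq a0 a1 b0 b1 c) hn, MulAction.Quotient.smul_coe _ _ _⟩
  · rintro p ⟨n, hn, rfl⟩ x y z v hd
    exact ⟨_, mul_mem (inv_mem (Nl x y z v hd)) hn, MulAction.Quotient.smul_coe _ _ _⟩
  · rintro p ⟨n, hn, rfl⟩
    exact hstar n hn

end abst

section mat
variable {F : Type} [Field F]

/-- elements of the Heisenberg group -/
def hM (a0 a1 b0 b1 c : F) : Matrix (Fin 2 × Fin 2) (Fin 2 × Fin 2) F := fun p q =>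
  (![![![![1, a0], ![a1, c]], ![![0, 1], ![0, b0]]], ![![![0, 0], ![1, b1]], ![![0, 0], ![0, 1]]]] :
    Fin 2 → Fin 2 → Fin 2 → Fin 2 → F) p.1 p.2 q.1 q.2

/-- elements of the Levi complement -/
def lM (x y z v : F) : Matrix (Fin 2 × Fin 2) (Fin 2 × Fin 2) F := fun p q =>
  (![![![![1, 0], ![0, 0]], ![![0, x], ![y, 0]]], ![![![0, z], ![v, 0]], ![![0, 0], ![0, 1]]]] :
    Fin 2 → Fin 2 → Fin 2 → Fin 2 → F) p.1 p.2 q.1 q.2

theorem hM_mul (a0 a1 b0 b1 c a0' a1' b0' b1' c' : F) : hM a0 a1 b0 b1 c * hM a0' a1' b0' b1' c' =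
    hM (a0 + a0') (a1 + a1') (b0 + b0') (b1 + b1') (c + c' + (a0 * b0' + a1 * b1')) := by
  ext ⟨i, j⟩ ⟨k, l⟩
  fin_cases i <;> fin_cases j <;> fin_cases k <;> fin_cases l <;>
    simp [hM, Matrix.mul_apply, Fintype.sum_prod_type] <;> ring

theorem hM_zero : hM (0 : F) 0 0 0 0 = 1 := by
  ext ⟨i, j⟩ ⟨k, l⟩
  fin_cases i <;> fin_cases j <;> fin_cases k <;> fin_cases l <;> simp [hM]

theorem lM_mul_hM (x y z v : F) (hd : x * v - y * z = 1) (a0 a1 b0 b1 c : F) :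
    lM x y z v * hM a0 a1 b0 b1 c = hM (a0 * v - a1 * z) (-a0 * y + a1 * x) (x * b0 + y * b1) (z * b0 + v * b1) c *
      lM x y z v := by
  ext ⟨i, j⟩ ⟨k, l⟩
  fin_cases i <;> fin_cases j <;> fin_cases k <;> fin_cases l <;>
    simp [hM, lM, Matrix.mul_apply, Fintype.sum_prod_type]
  · linear_combination (-a0) * hd
  · linear_combination (-a1) * hd

theorem lM_mul (x y z v : F) (hd : x * v - y * z = 1) : lM x y z v * lM v (-y) (-z) x = 1 := by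
  ext ⟨i, j⟩ ⟨k, l⟩
  fin_cases i <;> fin_cases j <;> fin_cases k <;> fin_cases l <;>
    simp [lM, Matrix.mul_apply, Fintype.sum_prod_type]
  all_goals first | linear_combination hd | ring

/-- the elements of the Heisenberg group in `GL` -/
def qG (a0 a1 b0 b1 c : F) : GL (Fin 2 × Fin 2) F where
  val := hM a0 a1 b0 b1 c
  inv := hM (-a0) (-a1) (-b0) (-b1) (-c + (a0 * b0 + a1 * b1))
  val_inv := by
    rw [hM_mul, ← hM_zero]
    congr 1 <;> ring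
  inv_val := by
    rw [hM_mul, ← hM_zero]
    congr 1 <;> ring

def lG (x y z v : F) (hd : x * v - y * z = 1) : GL (Fin 2 × Fin 2) F where
  val := lM x y z v
  inv := lM v (-y) (-z) x
  val_inv := lM_mul x y z v hd
  inv_val := by
    have := lM_mul v (-y) (-z) x (by linear_combination hd)
    rwa [neg_neg, neg_neg] at this

theorem qG_mul (a0 a1 b0 b1 c a0' a1' b0' b1' c' : F) : qG a0 a1 b0 b1 c * qG a0' a1' b0' b1' c' =
    qG (a0 + a0') (a1 + a1') (b0 + b0') (b1 + b1') (c + c' + (a0 * b0' + a1 * b1')) :=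
  Units.ext (hM_mul a0 a1 b0 b1 c a0' a1' b0' b1' c')

theorem lG_mul_qG (x y z v : F) (hd : x * v - y * z = 1) (a0 a1 b0 b1 c : F) :
    lG x y z v hd * qG a0 a1 b0 b1 c =
      qG (a0 * v - a1 * z) (-a0 * y + a1 * x) (x * b0 + y * b1) (z * b0 + v * b1) c * lG x y z v hd :=
  Units.ext (lM_mul_hM x y z v hd a0 a1 b0 b1 c)

theorem det_of_reindex (M : Matrix (Fin 2 × Fin 2) (Fin 2 × Fin 2) F) : M.det =
    (Matrix.of fun i j : Fin 4 => M ((finProdFinEquiv (m := 2) (n := 2)).symm i)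
      ((finProdFinEquiv (m := 2) (n := 2)).symm j)).det :=
  (Matrix.det_submatrix_equiv_self (finProdFinEquiv (m := 2) (n := 2)).symm M).symm

theorem det_hM (a0 a1 b0 b1 c : F) : (hM a0 a1 b0 b1 c).det = 1 := by
  rw [det_of_reindex]
  have : (Matrix.of fun i j : Fin 4 => hM a0 a1 b0 b1 c ((finProdFinEquiv (m := 2) (n := 2)).symm i)
      ((finProdFinEquiv (m := 2) (n := 2)).symm j)) =
      !![1, a0, a1, c; 0, 1, 0, b0; 0, 0, 1, b1; 0, 0, 0, 1] := by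
    ext i j
    fin_cases i <;> fin_cases j <;> rfl
  rw [this]
  simp [Matrix.det_succ_row_zero, Fin.sum_univ_succ, Fin.succAbove]

theorem det_lM (x y z v : F) (hd : x * v - y * z = 1) : (lM x y z v).det = 1 := by
  rw [det_of_reindex]
  have : (Matrix.of fun i j : Fin 4 => lM x y z v ((finProdFinEquiv (m := 2) (n := 2)).symm i)
      ((finProdFinEquiv (m := 2) (n := 2)).symm j)) =
      !![1, 0, 0, 0; 0, x, y, 0; 0, z, v, 0; 0, 0, 0, 1] := by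
    ext i j
    fin_cases i <;> fin_cases j <;> rfl
  rw [this]
  simp [Matrix.det_succ_row_zero, Fin.sum_univ_succ, Fin.succAbove]
  linear_combination hd

theorem adj_qG (B : GL (Fin 2 × Fin 2) F) (hB : (B : Matrix (Fin 2 × Fin 2) (Fin 2 × Fin 2) F) =
      Matrix.kroneckerMap (· * ·) !![0, 1; -1, 0] !![0, 1; -1, 0]) (a0 a1 b0 b1 c : F) :
    ct (qG a0 a1 b0 b1 c) * B = B * qG b1 b0 a1 a0 (a0 * b0 + a1 * b1 - c) := by
  apply Units.ext
  rw [Units.val_mul, Units.val_mul, coe_ct, hB]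
  change (hM (-a0) (-a1) (-b0) (-b1) (-c + (a0 * b0 + a1 * b1)))ᵀ * _ = _ * hM b1 b0 a1 a0 (a0 * b0 + a1 * b1 - c)
  ext ⟨i, j⟩ ⟨k, l⟩
  fin_cases i <;> fin_cases j <;> fin_cases k <;> fin_cases l <;>
    simp [hM, Matrix.mul_apply, Fintype.sum_prod_type]
  all_goals ring

theorem gam_mul_qG (B : GL (Fin 2 × Fin 2) F) (hB : (B : Matrix (Fin 2 × Fin 2) (Fin 2 × Fin 2) F) =
      Matrix.kroneckerMap (· * ·) !![0, 1; -1, 0] !![0, 1; -1, 0]) (a0 a1 b0 b1 c : F) :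
    gam B * Cj (qG a0 a1 b0 b1 c) = Cj (qG b1 b0 a1 a0 (a0 * b0 + a1 * b1 - c)) * gam B := by
  have h := adj_qG B hB a0 a1 b0 b1 c
  rw [gam, mul_assoc, It_mul_Cj, ← mul_assoc, ← mul_assoc, ← map_mul, ← map_mul]
  congr 2
  have h2 : B⁻¹ * (ct (qG a0 a1 b0 b1 c) * B) * B⁻¹ = qG b1 b0 a1 a0 (a0 * b0 + a1 * b1 - c) * B⁻¹ := by
    rw [h, inv_mul_cancel_left]
  rw [← h2]
  group

theorem k1_eq (s : F) (g : GL (Fin 2 × Fin 2) F) (hg : g = qG 0 s s 0 0) :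
    (g : Matrix (Fin 2 × Fin 2) (Fin 2 × Fin 2) F) = Matrix.kroneckerMap (· * ·) !![1, s; 0, 1] 1 := by
  rw [hg]
  change hM 0 s s 0 0 = _
  ext ⟨i, j⟩ ⟨k, l⟩
  fin_cases i <;> fin_cases j <;> fin_cases k <;> fin_cases l <;> simp [hM]

theorem k2_eq (s : F) (g : GL (Fin 2 × Fin 2) F) (hg : g = qG s 0 0 s 0) :
    (g : Matrix (Fin 2 × Fin 2) (Fin 2 × Fin 2) F) = Matrix.kroneckerMap (· * ·) 1 !![1, s; 0, 1] := by
  rw [hg]
  change hM s 0 0 s 0 = _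
  ext ⟨i, j⟩ ⟨k, l⟩
  fin_cases i <;> fin_cases j <;> fin_cases k <;> fin_cases l <;> simp [hM]

/-- the case `m = 4`, `ε = +`: the points moved by the long root element of the Heisenberg group -/
theorem o4_heis [Fintype F] (hS : IsSimpleGroup (Matrix.ProjectiveSpecialLinearGroup (Fin 2 × Fin 2) F))
    (h2 : (2 : F) ≠ 0) (hq : 5 ≤ Fintype.card F)
    (B : GL (Fin 2 × Fin 2) F) (hB : (B : Matrix (Fin 2 × Fin 2) (Fin 2 × Fin 2) F) =
      Matrix.kroneckerMap (· * ·) !![0, 1; -1, 0] !![0, 1; -1, 0])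
    (H : Subgroup (MulAut (Matrix.ProjectiveSpecialLinearGroup (Fin 2 × Fin 2) F)))
    (hstar : ∀ n ∈ inn (Matrix.ProjectiveSpecialLinearGroup (Fin 2 × Fin 2) F),
      gam B • ((n : MulAut (Matrix.ProjectiveSpecialLinearGroup (Fin 2 × Fin 2) F)) : _ ⧸ H) = n ∨
      (∀ g : GL (Fin 2 × Fin 2) F, (∃ s : F, (g : Matrix (Fin 2 × Fin 2) (Fin 2 × Fin 2) F) =
          Matrix.kroneckerMap (· * ·) !![1, s; 0, 1] 1) →
        Cj g • ((n : MulAut (Matrix.ProjectiveSpecialLinearGroup (Fin 2 × Fin 2) F)) : _ ⧸ H) = n) ∨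
      (∀ g : GL (Fin 2 × Fin 2) F, (∃ s : F, (g : Matrix (Fin 2 × Fin 2) (Fin 2 × Fin 2) F) =
          Matrix.kroneckerMap (· * ·) 1 !![1, s; 0, 1]) →
        Cj g • ((n : MulAut (Matrix.ProjectiveSpecialLinearGroup (Fin 2 × Fin 2) F)) : _ ⧸ H) = n)) :
    inn (Matrix.ProjectiveSpecialLinearGroup (Fin 2 × Fin 2) F) ≤ H := by
  have hy1 : (Cj (qG (0 : F) 0 0 0 1) : MulAut (Matrix.ProjectiveSpecialLinearGroup (Fin 2 × Fin 2) F)) ≠ 1 := by
    intro h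
    obtain ⟨c, hc⟩ := Cj_eq_one_iff.1 h
    have h3 := congrFun (congrFun hc (0, 0)) (1, 1)
    have h4 : hM (0 : F) 0 0 0 1 (0, 0) (1, 1) = 1 := rfl
    change hM (0 : F) 0 0 0 1 (0, 0) (1, 1) = _ at h3
    rw [h4] at h3
    simp at h3
  refine inn_le_of_fix hS (Cj_mem_inn (qG 0 0 0 0 1) (det_hM 0 0 0 0 1)) hy1 H ?_
  intro n₀ hn₀
  have k1 := fun (a0 a1 b0 b1 c a0' a1' b0' b1' c' : F) => (map_mul Cj (qG a0 a1 b0 b1 c) (qG a0' a1' b0' b1' c')).symm.trans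
    (congrArg Cj (qG_mul a0 a1 b0 b1 c a0' a1' b0' b1' c'))
  have k2 : Cj (qG (0 : F) 0 0 0 0) = 1 := by
    rw [show qG (0 : F) 0 0 0 0 = 1 from Units.ext hM_zero, map_one]
  have k3 : ∀ (x y z v : F) (hd : x * v - y * z = 1) (a0 a1 b0 b1 c : F), Cj (lG x y z v hd) * Cj (qG a0 a1 b0 b1 c) =
      Cj (qG (a0 * v - a1 * z) (-a0 * y + a1 * x) (x * b0 + y * b1) (z * b0 + v * b1) c) * Cj (lG x y z v hd) := by
    intro x y z v hd a0 a1 b0 b1 c
    rw [← map_mul, lG_mul_qG, map_mul]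
  have k4 := gam_mul_qG B hB
  have k5 : ∀ a0 a1 b0 b1 c : F, Cj (qG a0 a1 b0 b1 c) ∈ inn (Matrix.ProjectiveSpecialLinearGroup (Fin 2 × Fin 2) F) :=
    fun a0 a1 b0 b1 c => Cj_mem_inn (qG a0 a1 b0 b1 c) (det_hM a0 a1 b0 b1 c)
  have k6 : ∀ (x y z v : F) (hd : x * v - y * z = 1), Cj (lG x y z v hd) ∈
      inn (Matrix.ProjectiveSpecialLinearGroup (Fin 2 × Fin 2) F) :=
    fun x y z v hd => Cj_mem_inn (lG x y z v hd) (det_lM x y z v hd)
  exact heis_fix_quot h2 hq (fun a0 a1 b0 b1 c => Cj (qG a0 a1 b0 b1 c)) k1 k2 (fun x y z v hd => Cj (lG x y z v hd))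
    k3 (gam B) k4 _ H k5 k6 (fun n hn => (hstar n hn).imp id (fun h => h.imp
      (fun h s => h _ ⟨s, k1_eq s _ rfl⟩) (fun h s => h _ ⟨s, k2_eq s _ rfl⟩))) n₀ hn₀

end mat

end Cfsg.Agent.H239.RC
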